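import Mathlib

/-!
Definitions for the REP LEMMA (helper744, board 17168 / 17428; helper911 17170): every class of a cohomology theory `h`
on bounded complexes of `C` whose value on `v N` is represented by a bounded complex `Q` is hit by a
bounded complex `T` with `u T` quasi-isomorphic to `Q`.  Honest complexes only.
-/

open CategoryTheory Limits Category

namespace Groth.Agent.ResProp.EF.K744

universe w

/-- bounded complex -/
def Bdd {C : Type*} [Category* C] [HasZeroMorphisms C] (K : CochainComplex C ℤ) : Prop :=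
  ∃ a b : ℤ, ∀ i, (i < a ∨ b < i) → IsZero (K.X i)

section

variable {C M : Type*} [Category* C] [Category* M] [Abelian C] [Abelian M]
variable (u : C ⥤ M) (v : M ⥤ C) [u.Additive] [v.Additive]

/-- `u` on complexes -/
noncomputable abbrev cx (u : C ⥤ M) [u.Additive] : CochainComplex C ℤ ⥤ CochainComplex M ℤ :=
  u.mapHomologicalComplex (ComplexShape.up ℤ)

variable {u v}

/-- unit on complexes -/
noncomputable def unitC (adj : u ⊣ v) (T : CochainComplex C ℤ) : T ⟶ (cx v).obj ((cx u).obj T) where
  f i := adj.unit.app (T.X i)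
  comm' i j _ := by
    exact (adj.unit.naturality (T.d i j)).symm

/-- counit on complexes -/
noncomputable def counitC (adj : u ⊣ v) (N : CochainComplex M ℤ) : (cx u).obj ((cx v).obj N) ⟶ N where
  f i := adj.counit.app (N.X i)
  comm' i j _ := by
    exact (adj.counit.naturality (N.d i j)).symm

@[reassoc]
lemma unitC_naturality (adj : u ⊣ v) {T T' : CochainComplex C ℤ} (f : T ⟶ T') :
    f ≫ unitC adj T' = unitC adj T ≫ (cx v).map ((cx u).map f) := by
  ext i
  exact adj.unit.naturality (f.f i)

@[reassoc]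
lemma counitC_naturality (adj : u ⊣ v) {N N' : CochainComplex M ℤ} (f : N ⟶ N') :
    (cx u).map ((cx v).map f) ≫ counitC adj N' = counitC adj N ≫ f := by
  ext i
  exact adj.counit.naturality (f.f i)

@[reassoc]
lemma left_triangleC (adj : u ⊣ v) (T : CochainComplex C ℤ) :
    (cx u).map (unitC adj T) ≫ counitC adj ((cx u).obj T) = 𝟙 _ := by
  ext i
  exact adj.left_triangle_components (T.X i)

@[reassoc]
lemma right_triangleC (adj : u ⊣ v) (N : CochainComplex M ℤ) :
    unitC adj ((cx v).obj N) ≫ (cx v).map (counitC adj N) = 𝟙 _ := by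
  ext i
  exact adj.right_triangle_components (N.X i)

end

/-- A cohomology theory on bounded complexes of `C`, which is representable on `v N`. -/
structure RepTheory {C M : Type*} [Category* C] [Category* M] [Abelian C] [Abelian M]
    (u : C ⥤ M) (v : M ⥤ C) [u.Additive] [v.Additive] (adj : u ⊣ v) where
  h : CochainComplex C ℤ ⥤ AddCommGrpCat.{w}
  additive : h.Additive
  /-- middle exactness on short exact sequences of bounded complexes -/
  exact : ∀ S : ShortComplex (CochainComplex C ℤ), S.ShortExact → Bdd S.X₁ → Bdd S.X₂ → Bdd S.X₃ →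
    ∀ x : h.obj S.X₂, h.map S.g x = 0 → ∃ y : h.obj S.X₁, h.map S.f y = x
  N₀ : ℤ
  vanish : ∀ Z : CochainComplex C ℤ, Bdd Z → (∀ i ≤ N₀, Z.ExactAt i) → ∀ x : h.obj Z, x = 0
  Q : CochainComplex M ℤ
  bddQ : Bdd Q
  q : h.obj ((cx v).obj Q)
  rep_exists : ∀ N : CochainComplex M ℤ, Bdd N → ∀ x : h.obj ((cx v).obj N),
    ∃ f : Q ⟶ N, h.map ((cx v).map f) q = x
  rep_unique : ∀ N : CochainComplex M ℤ, Bdd N → ∀ f g : Q ⟶ N,
    h.map ((cx v).map f) q = h.map ((cx v).map g) q → ∀ i,
      HomologicalComplex.homologyMap f i = HomologicalComplex.homologyMap g i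

/-- Output of the REP lemma. -/
def RepHit {C M : Type*} [Category* C] [Category* M] [Abelian C] [Abelian M]
    {u : C ⥤ M} {v : M ⥤ C} [u.Additive] [v.Additive] {adj : u ⊣ v} (Th : RepTheory.{w} u v adj) :
    Prop :=
  ∀ (Y : CochainComplex C ℤ), Bdd Y → ∀ y : Th.h.obj Y,
    ∃ (T : CochainComplex C ℤ) (_ : Bdd T) (p : T ⟶ Y) (t : Th.h.obj T)
      (l : Th.Q ⟶ (cx u).obj T), Th.h.map p t = y ∧ QuasiIso l ∧
        Th.h.map ((cx v).map l) Th.q = Th.h.map (unitC adj T) t

end Groth.Agent.ResProp.EF.K744
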