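import Groth.Agent.ResProp.EF.K744.RepDef

/-!
REP LEMMA, proof (helper744): `Groth.Agent.ResProp.EF.K744.repHit`.
-/

open CategoryTheory Limits Category HomologicalComplex

namespace Groth.Agent.ResProp.EF.K744

universe w

section hom

variable {C M : Type*} [Category* C] [Category* M] [Abelian C] [Abelian M]
variable (F : C ⥤ M) [F.Additive] [F.PreservesHomology]

/-- cohomology commutes with an exact functor -/
noncomputable def isoH (K : CochainComplex C ℤ) (i : ℤ) :
    ((cx F).obj K).homology i ≅ F.obj (K.homology i) := (K.sc i).mapHomologyIso F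

@[reassoc]
lemma isoH_naturality {K L : CochainComplex C ℤ} (f : K ⟶ L) (i : ℤ) :
    homologyMap ((cx F).map f) i ≫ (isoH F L i).hom =
      (isoH F K i).hom ≫ F.map (homologyMap f i) :=
  ShortComplex.mapHomologyIso_hom_naturality ((shortComplexFunctor C _ i).map f) F

lemma homologyMap_cx {K L : CochainComplex C ℤ} (f : K ⟶ L) (i : ℤ) :
    homologyMap ((cx F).map f) i =
      (isoH F K i).hom ≫ F.map (homologyMap f i) ≫ (isoH F L i).inv := by
  rw [← isoH_naturality_assoc, Iso.hom_inv_id, Category.comp_id]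

lemma mono_homologyMap_cx {K L : CochainComplex C ℤ} (f : K ⟶ L) (i : ℤ)
    (h : Mono (homologyMap f i)) : Mono (homologyMap ((cx F).map f) i) := by
  rw [homologyMap_cx]
  infer_instance

lemma epi_homologyMap_cx {K L : CochainComplex C ℤ} (f : K ⟶ L) (i : ℤ)
    (h : Epi (homologyMap f i)) : Epi (homologyMap ((cx F).map f) i) := by
  rw [homologyMap_cx]
  infer_instance

lemma isZero_homology_cx {K : CochainComplex C ℤ} (i : ℤ) (h : IsZero (K.homology i)) :
    IsZero (((cx F).obj K).homology i) :=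
  (F.map_isZero h).of_iso (isoH F K i)

end hom

section bdd

variable {C M : Type*} [Category* C] [Category* M] [Abelian C] [Abelian M]

lemma Bdd.cx {K : CochainComplex C ℤ} (hK : Bdd K) (F : C ⥤ M) [F.Additive] :
    Bdd ((cx F).obj K) := by
  obtain ⟨a, b, h⟩ := hK
  exact ⟨a, b, fun i hi => F.map_isZero (h i hi)⟩

lemma Bdd.of_mono {K L : CochainComplex C ℤ} (hL : Bdd L) (f : K ⟶ L) [Mono f] : Bdd K := by
  obtain ⟨a, b, h⟩ := hL
  exact ⟨a, b, fun i hi => (h i hi).of_mono (f.f i)⟩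

lemma Bdd.of_epi {K L : CochainComplex C ℤ} (hK : Bdd K) (f : K ⟶ L) [Epi f] : Bdd L := by
  obtain ⟨a, b, h⟩ := hK
  exact ⟨a, b, fun i hi => (h i hi).of_epi (f.f i)⟩

lemma Bdd.biprod {K L : CochainComplex C ℤ} (hK : Bdd K) (hL : Bdd L) : Bdd (K ⊞ L) := by
  obtain ⟨a, b, h⟩ := hK
  obtain ⟨a', b', h'⟩ := hL
  refine ⟨min a a', max b b', fun i hi => ?_⟩
  have hi1 : i < a ∨ b < i := by omega
  have hi2 : i < a' ∨ b' < i := by omega
  rw [IsZero.iff_id_eq_zero]
  have h1 : (Limits.biprod.fst : K ⊞ L ⟶ K).f i = 0 := (h i hi1).eq_of_tgt _ _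
  have h2 : (Limits.biprod.snd : K ⊞ L ⟶ L).f i = 0 := (h' i hi2).eq_of_tgt _ _
  have h3 : (𝟙 (K ⊞ L) : K ⊞ L ⟶ K ⊞ L).f i = 0 := by
    have h4 := congrArg (fun φ : K ⊞ L ⟶ K ⊞ L => φ.f i) (Limits.biprod.total (X := K) (Y := L))
    simp only [add_f_apply, comp_f, h1, h2, zero_comp, add_zero] at h4
    exact h4.symm
  simpa using h3

lemma Bdd.of_shortExact {S : ShortComplex (CochainComplex C ℤ)} (hS : S.ShortExact)
    (h : Bdd S.X₂) : Bdd S.X₁ ∧ Bdd S.X₃ := by
  have := hS.mono_f
  have := hS.epi_g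
  exact ⟨h.of_mono S.f, h.of_epi S.g⟩

open CochainComplex in
/-- every bounded complex is a quotient of a bounded contractible one -/
lemma exists_epi_contractible {N : CochainComplex M ℤ} (hN : Bdd N) :
    ∃ (E : CochainComplex M ℤ) (π : E ⟶ N), Bdd E ∧ Epi π ∧ Nonempty (Homotopy (𝟙 E) 0) := by
  let J : CochainComplex M ℤ := (CategoryTheory.shiftFunctor (CochainComplex M ℤ) (-1 : ℤ)).obj N
  let E := mappingCone (𝟙 J)
  have h₀ : Homotopy (𝟙 E) 0 :=
      mappingCone.liftHomotopy _ _ _ (mappingCone.snd _) 0 (by simp) (by simp)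
  let π₀ : E ⟶ (CategoryTheory.shiftFunctor (CochainComplex M ℤ) (1 : ℤ)).obj J := (mappingCone.triangle (𝟙 J)).mor₃
  have hπ₀ : Epi π₀ := by
    have : ∀ i, Epi (π₀.f i) := by
      intro i
      have h1 : (mappingCone.inl (𝟙 J)).v (i+1) i (by omega) ≫ π₀.f i =
        -(J.shiftFunctorObjXIso 1 i (i + 1) (by omega)).inv :=
        mappingCone.inl_v_triangle_mor₃_f (𝟙 J) (i+1) i (by omega)
      refine (IsSplitEpi.mk' ⟨-((J.shiftFunctorObjXIso 1 i (i + 1) (by omega)).hom ≫
        (mappingCone.inl (𝟙 J)).v (i+1) i (by omega)), ?_⟩).epi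
      rw [Preadditive.neg_comp, Category.assoc, h1, Preadditive.comp_neg, neg_neg, Iso.hom_inv_id]
    exact epi_of_epi_f _ this
  let e : (CategoryTheory.shiftFunctor (CochainComplex M ℤ) (1 : ℤ)).obj J ≅ N :=
    (shiftFunctorCompIsoId (CochainComplex M ℤ) (-1 : ℤ) 1 (by omega)).app N
  refine ⟨E, π₀ ≫ e.hom, ?_, inferInstance, ⟨h₀⟩⟩
  obtain ⟨a, b, h⟩ := hN
  refine ⟨a, b + 1, fun i hi => ?_⟩
  rw [mappingCone.isZero_X_iff]
  constructor
  · exact (h i (by omega)).of_iso (N.shiftFunctorObjXIso (-1) (i + 1) i (by omega))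
  · exact (h (i - 1) (by omega)).of_iso (N.shiftFunctorObjXIso (-1) i (i - 1) (by omega))

end bdd

section step

variable {C M : Type*} [Category* C] [Category* M] [Abelian C] [Abelian M]
  {u : C ⥤ M} {v : M ⥤ C} [u.Additive] [v.Additive] {adj : u ⊣ v}
  (Th : RepTheory.{w} u v adj)

/-- `l` is the local map of the class `t` -/
def IsLoc (T : CochainComplex C ℤ) (t : Th.h.obj T) (l : Th.Q ⟶ (cx u).obj T) : Prop :=
  Th.h.map ((cx v).map l) Th.q = Th.h.map (unitC adj T) t

lemma exists_loc (T : CochainComplex C ℤ) (hT : Bdd T) (t : Th.h.obj T) : ∃ l, IsLoc Th T t l :=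
  Th.rep_exists _ (hT.cx u) _

lemma loc_naturality {T T' : CochainComplex C ℤ} (hT' : Bdd T') (f : T ⟶ T')
    {t : Th.h.obj T} {l : Th.Q ⟶ (cx u).obj T} {t' : Th.h.obj T'} {l' : Th.Q ⟶ (cx u).obj T'}
    (hl : IsLoc Th T t l) (hl' : IsLoc Th T' t' l') (ht : Th.h.map f t = t') (i : ℤ) :
    homologyMap (l ≫ (cx u).map f) i = homologyMap l' i := by
  apply Th.rep_unique _ (hT'.cx u)
  rw [hl', ← ht, Functor.map_comp, Functor.map_comp, ConcreteCategory.comp_apply, hl,
    ← ConcreteCategory.comp_apply, ← ConcreteCategory.comp_apply, ← Functor.map_comp,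
    ← Functor.map_comp, unitC_naturality]

/-- one step of the tower -/
theorem step [PreservesFiniteLimits u] [PreservesFiniteColimits u] [PreservesFiniteLimits v]
    [PreservesFiniteColimits v] {T : CochainComplex C ℤ} (hT : Bdd T) (t : Th.h.obj T)
    (l : Th.Q ⟶ (cx u).obj T) (hl : IsLoc Th T t l) (m : ℤ)
    (h1 : ∀ i ≤ m, Mono (homologyMap l i)) (h2 : ∀ i < m, Epi (homologyMap l i)) :
    ∃ (T' : CochainComplex C ℤ) (_ : Bdd T') (p : T' ⟶ T) (t' : Th.h.obj T')
      (l' : Th.Q ⟶ (cx u).obj T'), Th.h.map p t' = t ∧ IsLoc Th T' t' l' ∧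
      (∀ i, Mono (homologyMap l' i)) ∧ ∀ i < m + 1, Epi (homologyMap l' i) := by
  have := Th.additive
  obtain ⟨E, π, hE, hπ, ⟨hcontr⟩⟩ := exists_epi_contractible (hT.cx u)
  -- the surjection
  let X : CochainComplex C ℤ := T ⊞ ((cx v).obj Th.Q ⊞ (cx v).obj E)
  let g : X ⟶ (cx v).obj ((cx u).obj T) :=
    biprod.desc (unitC adj T) (biprod.desc (-(cx v).map l) ((cx v).map π))
  have hg1 : (biprod.inl : T ⟶ X) ≫ g = unitC adj T := by simp [g, X]
  have hg2 : (biprod.inl ≫ biprod.inr : (cx v).obj Th.Q ⟶ X) ≫ g = -(cx v).map l := by simp [g]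
  have hg3 : (biprod.inr ≫ biprod.inr : (cx v).obj E ⟶ X) ≫ g = (cx v).map π := by simp [g, X]
  have hgE : Epi g := by
    have h3 : Epi ((biprod.inr ≫ biprod.inr : (cx v).obj E ⟶ X) ≫ g) := by rw [hg3]; infer_instance
    exact epi_of_epi (biprod.inr ≫ biprod.inr : (cx v).obj E ⟶ X) g
  let S : ShortComplex (CochainComplex C ℤ) := ShortComplex.mk (kernel.ι g) g (kernel.condition g)
  have hS : S.ShortExact :=
    { exact := ShortComplex.exact_kernel g
      mono_f := by dsimp [S]; infer_instance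
      epi_g := hgE }
  have hX : Bdd X := hT.biprod ((Th.bddQ.cx v).biprod (hE.cx v))
  have hT' : Bdd (kernel g) := hX.of_mono (kernel.ι g)
  -- the class
  let x : Th.h.obj X := Th.h.map (biprod.inl : T ⟶ X) t +
    Th.h.map (biprod.inl ≫ biprod.inr : (cx v).obj Th.Q ⟶ X) Th.q
  have hx : Th.h.map g x = 0 := by
    dsimp only [x]
    rw [map_add, ← ConcreteCategory.comp_apply, ← ConcreteCategory.comp_apply, ← Functor.map_comp,
      ← Functor.map_comp, hg1, hg2, ← hl, Functor.map_neg]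
    exact add_neg_cancel (Th.h.map ((cx v).map l) Th.q)
  obtain ⟨t', ht'⟩ := Th.exact S hS hT' hX ((hT.cx u).cx v) x hx
  obtain ⟨l', hl'⟩ := exists_loc Th (kernel g) hT' t'
  -- components
  let p₁ : X ⟶ T := biprod.fst
  let p₂ : X ⟶ (cx v).obj Th.Q := biprod.snd ≫ biprod.fst
  let p₃ : X ⟶ (cx v).obj E := biprod.snd ≫ biprod.snd
  let a : kernel g ⟶ T := kernel.ι g ≫ p₁
  let b : kernel g ⟶ (cx v).obj Th.Q := kernel.ι g ≫ p₂
  let c : kernel g ⟶ (cx v).obj E := kernel.ι g ≫ p₃
  have hid : 𝟙 X = p₁ ≫ biprod.inl + p₂ ≫ (biprod.inl ≫ biprod.inr) +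
      p₃ ≫ (biprod.inr ≫ biprod.inr) := by
    dsimp [p₁, p₂, p₃, X]
    ext <;> simp
  have hg : g = p₁ ≫ unitC adj T - p₂ ≫ (cx v).map l + p₃ ≫ (cx v).map π := by
    dsimp only [g, p₁, p₂, p₃]
    apply biprod.hom_ext'
    · simp
    · apply biprod.hom_ext'
      · simp
      · simp
  have hrel : a ≫ unitC adj T - b ≫ (cx v).map l + c ≫ (cx v).map π = 0 := by
    have h0 := kernel.condition g
    have h1 := congrArg (fun z => kernel.ι g ≫ z) hg
    rw [h0] at h1
    rw [h1]
    simp only [a, b, c, Preadditive.comp_add, Preadditive.comp_sub, Category.assoc]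
  have hmapx : ∀ {Z : CochainComplex C ℤ} (p : X ⟶ Z),
      Th.h.map (kernel.ι g ≫ p) t' = Th.h.map ((biprod.inl : T ⟶ X) ≫ p) t +
        Th.h.map ((biprod.inl ≫ biprod.inr : (cx v).obj Th.Q ⟶ X) ≫ p) Th.q := by
    intro Z p
    rw [Functor.map_comp, ConcreteCategory.comp_apply]
    have h5 : Th.h.map (kernel.ι g) t' = x := ht'
    rw [h5]
    dsimp only [x]
    rw [map_add, ← ConcreteCategory.comp_apply, ← ConcreteCategory.comp_apply, ← Functor.map_comp,
      ← Functor.map_comp]
  have hz : ∀ {Z W : CochainComplex C ℤ} (z : Th.h.obj Z), Th.h.map (0 : Z ⟶ W) z = 0 := by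
    intro Z W z
    rw [Functor.map_zero]
    rfl
  have hi : ∀ {Z : CochainComplex C ℤ} (z : Th.h.obj Z), Th.h.map (𝟙 Z) z = z := by
    intro Z z
    rw [CategoryTheory.Functor.map_id]
    rfl
  have hc : ∀ {Z W R : CochainComplex C ℤ} (f₁ : Z ⟶ W) (f₂ : W ⟶ R) (z : Th.h.obj Z),
      Th.h.map (f₁ ≫ f₂) z = Th.h.map f₂ (Th.h.map f₁ z) := by
    intro Z W R f₁ f₂ z
    rw [Functor.map_comp]
    rfl
  have ha : Th.h.map a t' = t := by
    rw [hmapx, show (biprod.inl : T ⟶ X) ≫ p₁ = 𝟙 _ by simp [p₁, X],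
      show (biprod.inl ≫ biprod.inr : (cx v).obj Th.Q ⟶ X) ≫ p₁ = 0 by simp [p₁, X], hi, hz, add_zero]
  have hb : Th.h.map b t' = Th.q := by
    rw [hmapx, show (biprod.inl : T ⟶ X) ≫ p₂ = 0 by simp [p₂, X],
      show (biprod.inl ≫ biprod.inr : (cx v).obj Th.Q ⟶ X) ≫ p₂ = 𝟙 _ by simp [p₂, X],
      hi, hz, zero_add]
  -- cohomology relations
  have r1 : ∀ i, homologyMap (l' ≫ (cx u).map a) i = homologyMap l i :=
    loc_naturality Th hT a hl' hl ha
  have r2 : ∀ i, homologyMap (l' ≫ (cx u).map b ≫ counitC adj Th.Q) i = 𝟙 _ := by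
    intro i
    rw [← homologyMap_id]
    apply Th.rep_unique _ Th.bddQ
    rw [CategoryTheory.Functor.map_id, hi, (cx v).map_comp, (cx v).map_comp,
      hc ((cx v).map l'), hl', ← hc, ← unitC_naturality_assoc, hc b, hb, right_triangleC, hi]
  have hE0 : ∀ i, IsZero (((cx u).obj ((cx v).obj E)).homology i) := by
    intro i
    apply isZero_homology_cx
    apply isZero_homology_cx
    rw [IsZero.iff_id_eq_zero, ← homologyMap_id, hcontr.homologyMap_eq, homologyMap_zero]
  have r3 : ∀ i, homologyMap ((cx u).map a ≫ (cx u).map (unitC adj T)) i =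
      homologyMap ((cx u).map b ≫ (cx u).map ((cx v).map l)) i := by
    intro i
    have h6 := congrArg (fun φ => homologyMap ((cx u).map φ) i) hrel
    have h7 : homologyMap ((cx u).map (c ≫ (cx v).map π)) i = 0 := by
      rw [Functor.map_comp, homologyMap_comp, (hE0 i).eq_of_tgt (homologyMap ((cx u).map c) i) 0,
        zero_comp]
    simp only [Functor.map_add, Functor.map_sub, homologyMap_add, homologyMap_sub, h7, add_zero,
      Functor.map_zero, homologyMap_zero] at h6
    rw [sub_eq_zero] at h6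
    rw [← Functor.map_comp, ← Functor.map_comp]
    exact h6
  have hmono : ∀ i, Mono (homologyMap l' i) := by
    intro i
    have h8 := r2 i
    rw [homologyMap_comp] at h8
    exact (IsSplitMono.mk' ⟨_, h8⟩).mono
  refine ⟨kernel g, hT', a, t', l', ha, hl', hmono, fun i hi => ?_⟩
  -- `H^i(u (kernel.ι g))` is mono
  have hSu : (S.map (cx u)).ShortExact := hS.map_of_exact (cx u)
  have hepi : Epi (homologyMap ((cx u).map g) (i - 1)) := by
    have h9 : Epi (homologyMap ((cx u).map ((cx v).map l)) (i - 1)) := by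
      apply epi_homologyMap_cx
      apply epi_homologyMap_cx
      exact h2 _ (by omega)
    have h10 : homologyMap ((cx u).map (biprod.inl ≫ biprod.inr : (cx v).obj Th.Q ⟶ X)) (i - 1) ≫
        homologyMap ((cx u).map g) (i - 1) = - homologyMap ((cx u).map ((cx v).map l)) (i - 1) := by
      rw [← homologyMap_comp, ← Functor.map_comp, hg2, Functor.map_neg, homologyMap_neg]
    have h11 : Epi (homologyMap ((cx u).map (biprod.inl ≫ biprod.inr : (cx v).obj Th.Q ⟶ X)) (i - 1) ≫
        homologyMap ((cx u).map g) (i - 1)) := by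
      rw [h10]
      constructor
      intro Z f₁ f₂ w
      rw [Preadditive.neg_comp, Preadditive.neg_comp, neg_inj] at w
      exact (cancel_epi _).1 w
    exact epi_of_epi (homologyMap ((cx u).map (biprod.inl ≫ biprod.inr : (cx v).obj Th.Q ⟶ X)) (i - 1)) _
  have hδ : hSu.δ (i - 1) i (by simp) = 0 := by
    have h12 := hSu.comp_δ (i - 1) i (by simp)
    have h13 : Epi (homologyMap (S.map (cx u)).g (i - 1)) := hepi
    rw [← cancel_epi (homologyMap (S.map (cx u)).g (i - 1)), h12, comp_zero]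
  have hm : Mono (homologyMap ((cx u).map (kernel.ι g)) i) :=
    (hSu.homology_exact₁ (i - 1) i (by simp)).mono_g hδ
  -- the inverse
  let e : (cx u).obj (kernel g) ⟶ Th.Q := (cx u).map b ≫ counitC adj Th.Q
  have q1 : homologyMap (e ≫ l' ≫ (cx u).map a) i = homologyMap ((cx u).map a) i := by
    rw [homologyMap_comp, r1, ← homologyMap_comp, Category.assoc, ← counitC_naturality,
      ← Category.assoc, homologyMap_comp, ← r3, ← homologyMap_comp, Category.assoc,
      left_triangleC, Category.comp_id]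
  have hml : Mono (homologyMap ((cx u).map ((cx v).map l)) i) := by
    apply mono_homologyMap_cx
    apply mono_homologyMap_cx
    exact h1 _ (by omega)
  have r3' : homologyMap ((cx u).map a) i ≫ homologyMap ((cx u).map (unitC adj T)) i =
      homologyMap ((cx u).map b) i ≫ homologyMap ((cx u).map ((cx v).map l)) i := by
    rw [← homologyMap_comp, r3, homologyMap_comp]
  have q1' : homologyMap e i ≫ homologyMap l' i ≫ homologyMap ((cx u).map a) i =
      homologyMap ((cx u).map a) i := by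
    rw [← homologyMap_comp, ← homologyMap_comp, q1]
  have q2 : homologyMap e i ≫ homologyMap l' i ≫ homologyMap ((cx u).map b) i =
      homologyMap ((cx u).map b) i := by
    rw [← cancel_mono (homologyMap ((cx u).map ((cx v).map l)) i), Category.assoc, Category.assoc,
      ← r3', ← Category.assoc, ← Category.assoc, Category.assoc (homologyMap e i), q1']
  have hel : homologyMap e i ≫ homologyMap l' i = 𝟙 _ := by
    have hid' : 𝟙 _ = homologyMap ((cx u).map p₁) i ≫ homologyMap ((cx u).map biprod.inl) i +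
        homologyMap ((cx u).map p₂) i ≫ homologyMap ((cx u).map (biprod.inl ≫ biprod.inr)) i +
        homologyMap ((cx u).map p₃) i ≫ homologyMap ((cx u).map (biprod.inr ≫ biprod.inr)) i := by
      rw [← homologyMap_comp, ← homologyMap_comp, ← homologyMap_comp, ← homologyMap_add,
        ← homologyMap_add, ← Functor.map_comp, ← Functor.map_comp, ← Functor.map_comp,
        ← Functor.map_add, ← Functor.map_add, ← hid, CategoryTheory.Functor.map_id, homologyMap_id]
    have hjm : ∀ {Z : M} (f₁ f₂ : Z ⟶ ((cx u).obj X).homology i),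
        f₁ ≫ homologyMap ((cx u).map p₁) i = f₂ ≫ homologyMap ((cx u).map p₁) i →
        f₁ ≫ homologyMap ((cx u).map p₂) i = f₂ ≫ homologyMap ((cx u).map p₂) i → f₁ = f₂ := by
      intro Z f₁ f₂ e1 e2
      have e3 : f₁ ≫ homologyMap ((cx u).map p₃) i = f₂ ≫ homologyMap ((cx u).map p₃) i :=
        (hE0 i).eq_of_tgt _ _
      rw [← Category.comp_id f₁, ← Category.comp_id f₂, hid']
      simp only [Preadditive.comp_add, ← Category.assoc, e1, e2, e3]
    rw [← cancel_mono (homologyMap ((cx u).map (kernel.ι g)) i), Category.id_comp,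
      Category.assoc]
    apply hjm
    · rw [Category.assoc, Category.assoc, ← homologyMap_comp, ← Functor.map_comp]
      exact q1'
    · rw [Category.assoc, Category.assoc, ← homologyMap_comp, ← Functor.map_comp]
      exact q2
  exact (IsSplitEpi.mk' ⟨_, hel⟩).epi

end step

section main

variable {C M : Type*} [Category* C] [Category* M] [Abelian C] [Abelian M]
  {u : C ⥤ M} {v : M ⥤ C} [u.Additive] [v.Additive] {adj : u ⊣ v}
  (Th : RepTheory.{w} u v adj)

/-- the tower -/
theorem tower [PreservesFiniteLimits u] [PreservesFiniteColimits u] [PreservesFiniteLimits v]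
    [PreservesFiniteColimits v] {Y : CochainComplex C ℤ} (hY : Bdd Y) (y : Th.h.obj Y) :
    ∃ m₀ : ℤ, ∀ n : ℕ, ∃ (T : CochainComplex C ℤ) (_ : Bdd T) (p : T ⟶ Y) (t : Th.h.obj T)
      (l : Th.Q ⟶ (cx u).obj T), Th.h.map p t = y ∧ IsLoc Th T t l ∧
      (∀ i ≤ m₀ + n, Mono (homologyMap l i)) ∧ ∀ i < m₀ + n, Epi (homologyMap l i) := by
  obtain ⟨a, b, hab⟩ := hY.cx u
  obtain ⟨a', b', hab'⟩ := Th.bddQ
  refine ⟨min a a' - 1, fun n => ?_⟩
  induction n with
  | zero =>
    obtain ⟨l, hl⟩ := exists_loc Th Y hY y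
    refine ⟨Y, hY, 𝟙 Y, y, l, ?_, hl, ?_, ?_⟩
    · rw [CategoryTheory.Functor.map_id]
      rfl
    · intro i hi
      have : IsZero (Th.Q.homology i) :=
        ShortComplex.isZero_homology_of_isZero_X₂ _ (hab' i (by push_cast at hi; omega))
      exact ⟨fun _ _ _ => this.eq_of_tgt _ _⟩
    · intro i hi
      have : IsZero (((cx u).obj Y).homology i) :=
        ShortComplex.isZero_homology_of_isZero_X₂ _ (hab i (by push_cast at hi; omega))
      exact ⟨fun _ _ _ => this.eq_of_src _ _⟩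
  | succ n ih =>
    obtain ⟨T, hT, p, t, l, hp, hl, h1, h2⟩ := ih
    obtain ⟨T', hT', p', t', l', hp', hl', h1', h2'⟩ := step Th hT t l hl _ h1 h2
    refine ⟨T', hT', p' ≫ p, t', l', ?_, hl', fun i _ => h1' i, fun i hi => h2' i ?_⟩
    · rw [Functor.map_comp, ConcreteCategory.comp_apply, hp', hp]
    · push_cast at hi
      omega

/-- canonical truncation, elementary form -/
lemma exists_trunc {T : CochainComplex C ℤ} (hT : Bdd T) (N : ℤ) :
    ∃ (T' Z : CochainComplex C ℤ) (ι : T' ⟶ T) (g : T ⟶ Z) (w : ι ≫ g = 0),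
      (ShortComplex.mk ι g w).ShortExact ∧ Bdd T' ∧ Bdd Z ∧
      (∀ i ≤ N, IsIso (homologyMap ι i)) ∧ (∀ i, N < i → IsZero (T'.homology i)) ∧
      (∀ i ≤ N, Z.ExactAt i) := by
  have hS : (T.shortComplexTruncLE N).ShortExact := T.shortComplexTruncLE_shortExact N
  refine ⟨_, _, (T.shortComplexTruncLE N).f, (T.shortComplexTruncLE N).g,
    (T.shortComplexTruncLE N).zero, hS, ?_, ?_, ?_, ?_, ?_⟩
  · exact (Bdd.of_shortExact hS hT).1
  · exact (Bdd.of_shortExact hS hT).2
  · intro i hi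
    have h7 : QuasiIsoAt (T.ιTruncLE N) i := T.quasiIsoAt_ιTruncLE N i hi
    rw [quasiIsoAt_iff_isIso_homologyMap] at h7
    exact h7
  · intro i hi
    exact CochainComplex.isZero_of_isLE (T.truncLE N) N i (by omega)
  · intro i hi
    rw [exactAt_iff_isZero_homology]
    have hq : QuasiIso (T.shortComplexTruncLEX₃ToTruncGE N (N + 1)) := inferInstance
    have h3 : IsZero ((T.truncGE (N + 1)).homology i) :=
      CochainComplex.isZero_of_isGE _ (N + 1) i (by omega)
    exact h3.of_iso (asIso (homologyMap (T.shortComplexTruncLEX₃ToTruncGE N (N + 1)) i))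

/-- **REP LEMMA** -/
theorem repHit [PreservesFiniteLimits u] [PreservesFiniteColimits u] [PreservesFiniteLimits v]
    [PreservesFiniteColimits v] : RepHit Th := by
  intro Y hY y
  obtain ⟨m₀, htow⟩ := tower Th hY y
  obtain ⟨a', b', hab'⟩ := Th.bddQ
  -- truncation degree
  let N : ℤ := max Th.N₀ b'
  obtain ⟨T, hT, p, t, l, hp, hl, h1, h2⟩ := htow (N + 1 - m₀).toNat
  have hN : N + 1 ≤ m₀ + ((N + 1 - m₀).toNat : ℤ) := by omega
  obtain ⟨T', Z, ι, g, w, hS, hT', hZ, hι, hT'0, hZ0⟩ := exists_trunc hT N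
  obtain ⟨t₀, ht₀⟩ := Th.exact _ hS hT' hT hZ t
    (Th.vanish _ hZ (fun i hi => hZ0 i (by omega)) _)
  dsimp only at t₀ ht₀
  obtain ⟨l₀, hl₀⟩ := exists_loc Th T' hT' t₀
  refine ⟨T', hT', ι ≫ p, t₀, l₀, ?_, ?_, hl₀⟩
  · rw [Functor.map_comp, ConcreteCategory.comp_apply, ht₀, hp]
  · rw [quasiIso_iff]
    intro i
    rw [quasiIsoAt_iff_isIso_homologyMap]
    by_cases hi : i ≤ N
    · have h4 := loc_naturality Th hT ι hl₀ hl ht₀ i
      rw [homologyMap_comp] at h4
      have h5 : IsIso (homologyMap l i) := by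
        have := h1 i (by omega)
        have := h2 i (by omega)
        exact isIso_of_mono_of_epi _
      have h6 : IsIso (homologyMap ((cx u).map ι) i) := by
        have h7 := hι i hi
        rw [homologyMap_cx]
        infer_instance
      rw [← h4] at h5
      exact IsIso.of_isIso_comp_right _ (homologyMap ((cx u).map ι) i)
    · have h7 : IsZero (Th.Q.homology i) :=
        ShortComplex.isZero_homology_of_isZero_X₂ _ (hab' i (by omega))
      have h8 : IsZero (((cx u).obj T').homology i) := by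
        apply isZero_homology_cx
        exact hT'0 i (by omega)
      exact ⟨0, h7.eq_of_src _ _, h8.eq_of_src _ _⟩

end main

end Groth.Agent.ResProp.EF.K744
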