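import Groth.Agent.ResProp.EF.F5.Iface
import Groth.Agent.ResProp.EF.K744.Rep

/-!
`F5.RepLemma X` for every abstract chart (helper744), from `K744.repHit`.
-/

set_option autoImplicit false

universe t w v u

open CategoryTheory CategoryTheory.Limits HomologicalComplex

namespace Groth.Agent.ResProp.EF.K744

open Groth.Agent.ResProp.EF.K294

variable {C : Type v} [Category.{w} C] [Abelian C]

lemma bdd_iff (K : CochainComplex C ℤ) : F5.Bdd K ↔ Bdd K := by
  constructor
  · rintro ⟨a, b, h1, h2⟩
    rw [CochainComplex.isStrictlyGE_iff] at h1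
    rw [CochainComplex.isStrictlyLE_iff] at h2
    exact ⟨a, b, fun i hi => hi.elim (fun hi => h1 i hi) (fun hi => h2 i hi)⟩
  · rintro ⟨a, b, h⟩
    refine ⟨a, b, ?_, ?_⟩
    · rw [CochainComplex.isStrictlyGE_iff]
      exact fun i hi => h i (Or.inl hi)
    · rw [CochainComplex.isStrictlyLE_iff]
      exact fun i hi => h i (Or.inr hi)

variable {A : Type u} [CommRing A] (X : Chart A C)

/-- **REP LEMMA** for abstract charts. -/
theorem repLemma : F5.RepLemma.{t} X := by
  intro h hh Q hQ q hq Y hY y
  obtain ⟨N, hN⟩ := hh.vanish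
  have : PreservesFiniteColimits X.us := by
    have := X.adj.leftAdjoint_preservesColimits
    infer_instance
  have : PreservesFiniteLimits X.ul := by
    have := X.adj.rightAdjoint_preservesLimits
    infer_instance
  let Th : RepTheory.{t} X.us X.ul X.adj :=
    { h := h
      additive := hh.additive
      exact := fun S hS h1 h2 h3 x hx =>
        hh.exact S hS ((bdd_iff _).2 h1) ((bdd_iff _).2 h2) ((bdd_iff _).2 h3) x hx
      N₀ := N
      vanish := fun Z hZ hz x => hN Z ((bdd_iff _).2 hZ) hz x
      Q := Q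
      bddQ := (bdd_iff _).1 hQ
      q := q
      rep_exists := fun N hN x => hq.ex N ((bdd_iff _).2 hN) x
      rep_unique := fun N hN f g hfg => hq.uniq N ((bdd_iff _).2 hN) f g hfg }
  obtain ⟨T, hT, p, s, l, hs, hl, -⟩ := repHit Th Y ((bdd_iff _).1 hY) y
  exact ⟨T, p, s, (bdd_iff _).2 hT, hs, l, hl⟩

end Groth.Agent.ResProp.EF.K744
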