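import Groth.Agent.ResProp.EF.K496.CobAbs

/-!
# The shear of a Hopf comonad (S16912, G6c, [TW], helper744)

`G` a comonad on `C` with unit `U : CUnit G`.  `HopfG U` : a multiplication `mu : G G ⟶ G`, an antipode `sa : G ⟶ G` and the
diagonal coaction law `lam : G G ⟶ G G`, `(n ⊗ a) ⊗ x ↦ (n ⊗ x₁) ⊗ a x₂`.
* `H.twO : G.Coalgebra ⥤ G.Coalgebra`, `M ↦ (G M, G a ≫ lam)`: the twist by the regular comodule.
* `H.sigma : H.twO ≅ G.forget ⋙ G.cofree`, `m ⊗ x ↦ m₀ ⊗ m₁ x`.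
-/

set_option autoImplicit false

noncomputable section

open CategoryTheory CategoryTheory.Limits

namespace Groth.Agent.ResProp.EF.K744

open K496

universe v u

variable {C : Type u} [Category.{v} C] {G : Comonad C}

/-- The diagonal coaction law `(n ⊗ a) ⊗ x ↦ (n ⊗ x₁) ⊗ a x₂`. -/
structure LamG (G : Comonad C) where
  lam : ∀ N : C, G.obj (G.obj N) ⟶ G.obj (G.obj N)
  nat : ∀ {M N : C} (f : M ⟶ N), G.map (G.map f) ≫ lam N = lam M ≫ G.map (G.map f)
  counit : ∀ N : C, lam N ≫ G.ε.app (G.obj N) = G.map (G.ε.app N)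
  comul : ∀ N : C, lam N ≫ dl G (G.obj N) = G.map (dl G N) ≫ lam (G.obj N) ≫ G.map (lam N)

/-- Multiplication and antipode of a Hopf comonad. -/
structure HopfG (U : CUnit G) (L : LamG G) where
  mu : ∀ N : C, G.obj (G.obj N) ⟶ G.obj N
  sa : ∀ N : C, G.obj N ⟶ G.obj N
  mu_nat : ∀ {M N : C} (f : M ⟶ N), G.map (G.map f) ≫ mu N = mu M ≫ G.map f
  sa_nat : ∀ {M N : C} (f : M ⟶ N), G.map f ≫ sa N = sa M ≫ G.map f
  mu_assoc : ∀ N : C, mu (G.obj N) ≫ mu N = G.map (mu N) ≫ mu N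
  mu_one : ∀ N : C, G.map (U.e N) ≫ mu N = 𝟙 (G.obj N)
  sa_left : ∀ N : C, dl G N ≫ G.map (sa N) ≫ mu N = G.ε.app N ≫ U.e N
  sa_right : ∀ N : C, dl G N ≫ sa (G.obj N) ≫ mu N = G.ε.app N ≫ U.e N
  lam_mu : ∀ N : C, G.map (dl G N) ≫ L.lam (G.obj N) ≫ G.map (mu N) = mu N ≫ dl G N

namespace LamG

variable (L : LamG G)

/-- the twist by the regular comodule -/
@[simps]
def twO : G.Coalgebra ⥤ G.Coalgebra where
  obj M :=
    { A := G.obj M.A
      a := G.map M.a ≫ L.lam M.A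
      counit := by
        rw [Category.assoc, L.counit, ← G.map_comp, M.counit, G.map_id]
      coassoc := by
        have h := M.coassoc
        change (G.map M.a ≫ L.lam M.A) ≫ dl G (G.obj M.A) = _
        rw [Category.assoc, L.comul, ← G.map_comp_assoc]
        change G.map (M.a ≫ G.δ.app M.A) ≫ _ = _
        rw [h, G.map_comp, Category.assoc, ← Category.assoc (G.map (G.map M.a)), L.nat, G.map_comp]
        simp only [Category.assoc] }
  map {M N} f :=
    { f := G.map f.f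
      h := by
        change (G.map M.a ≫ L.lam M.A) ≫ G.map (G.map f.f) = G.map f.f ≫ G.map N.a ≫ L.lam N.A
        rw [Category.assoc, ← L.nat, ← G.map_comp_assoc, ← G.map_comp_assoc, f.h] }
  map_id M := by
    ext
    exact G.map_id _
  map_comp f g := by
    ext
    exact G.map_comp _ _

end LamG

namespace HopfG

variable {U : CUnit G} {L : LamG G} (H : HopfG U L)

/-- the shear `m ⊗ x ↦ m₀ ⊗ m₁ x` -/
def sh (M : G.Coalgebra) : G.obj M.A ⟶ G.obj M.A := G.map M.a ≫ H.mu M.A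

/-- the inverse shear `m ⊗ x ↦ m₀ ⊗ S(m₁) x` -/
def shInv (M : G.Coalgebra) : G.obj M.A ⟶ G.obj M.A := G.map (M.a ≫ H.sa M.A) ≫ H.mu M.A

lemma sh_shInv (M : G.Coalgebra) : H.sh M ≫ H.shInv M = 𝟙 _ := by
  have h : M.a ≫ dl G M.A = M.a ≫ G.map M.a := M.coassoc
  have h1 : M.a ≫ G.ε.app M.A = 𝟙 M.A := M.counit
  rw [sh, shInv, Category.assoc, ← Category.assoc (H.mu M.A), ← H.mu_nat, Category.assoc, H.mu_assoc,
    ← G.map_comp_assoc, ← G.map_comp_assoc, G.map_comp M.a (H.sa M.A)]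
  have e : (M.a ≫ G.map M.a ≫ G.map (H.sa M.A)) ≫ H.mu M.A = U.e M.A := by
    rw [Category.assoc, Category.assoc, ← Category.assoc M.a (G.map M.a), ← h, Category.assoc, H.sa_left,
      ← Category.assoc, h1, Category.id_comp]
  rw [e, H.mu_one]

lemma shInv_sh (M : G.Coalgebra) : H.shInv M ≫ H.sh M = 𝟙 _ := by
  have h : M.a ≫ dl G M.A = M.a ≫ G.map M.a := M.coassoc
  have h1 : M.a ≫ G.ε.app M.A = 𝟙 M.A := M.counit
  rw [sh, shInv, Category.assoc, ← Category.assoc (H.mu M.A), ← H.mu_nat, Category.assoc, H.mu_assoc,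
    ← G.map_comp_assoc, ← G.map_comp_assoc]
  have e : ((M.a ≫ H.sa M.A) ≫ G.map M.a) ≫ H.mu M.A = U.e M.A := by
    rw [Category.assoc M.a, ← H.sa_nat, ← Category.assoc M.a, ← h, Category.assoc, Category.assoc, H.sa_right,
      ← Category.assoc, h1, Category.id_comp]
  rw [e, H.mu_one]

/-- the shear is a morphism to the cofree coalgebra -/
lemma sh_h (M : G.Coalgebra) : (G.map M.a ≫ L.lam M.A) ≫ G.map (H.sh M) = H.sh M ≫ dl G M.A := by
  have h : M.a ≫ dl G M.A = M.a ≫ G.map M.a := M.coassoc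
  rw [sh, G.map_comp, Category.assoc, ← Category.assoc (L.lam M.A), ← L.nat, Category.assoc, ← G.map_comp_assoc, ← h,
    G.map_comp, Category.assoc, H.lam_mu, Category.assoc]

/-- **the shear** -/
def sigma : L.twO ≅ G.forget ⋙ G.cofree :=
  NatIso.ofComponents (fun M => Comonad.Coalgebra.isoMk (A := L.twO.obj M) (B := (G.forget ⋙ G.cofree).obj M)
    ({ hom := H.sh M, inv := H.shInv M, hom_inv_id := H.sh_shInv M, inv_hom_id := H.shInv_sh M } :
      G.obj M.A ≅ G.obj M.A) (H.sh_h M)) (fun {M N} f => by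
    ext
    change G.map f.f ≫ (G.map N.a ≫ H.mu N.A) = (G.map M.a ≫ H.mu M.A) ≫ G.map f.f
    rw [Category.assoc, ← H.mu_nat, ← G.map_comp_assoc, ← G.map_comp_assoc, f.h])

@[simp] lemma sigma_hom_app_f (M : G.Coalgebra) : (H.sigma.hom.app M).f = G.map M.a ≫ H.mu M.A := rfl

end HopfG

end Groth.Agent.ResProp.EF.K744
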