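import Groth.Agent.ResProp.EF.K744.ShearLev

/-!
# The shear on `(GO s O).Coalgebra` (S16912, G6c, [TW], helper744)

`lamG s O : LamG (GO s O)`, `hopfG s O : HopfG (unitGO s O) (lamG s O)` for a commutative Hopf algebra `O`, hence
`(hopfG s O).sigma : (lamG s O).twO ≅ (GO s O).forget ⋙ (GO s O).cofree`.
-/

set_option autoImplicit false
set_option linter.unusedSectionVars false
set_option linter.dupNamespace false

open CategoryTheory CategoryTheory.Limits Opposite TensorProduct

noncomputable section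

namespace Groth.Agent.ResProp.EF.K744

open K742 K784.BC K784.PM K741.RP EF56

universe u

variable {k : Type u} [CommRing k]

section Level

variable {O : Type u} [CommRing O] [Bialgebra k O]
variable {R : Type u} [CommRing R] (κ : k →+* R) {M : Type u} [AddCommGroup M] [Module R M]

theorem ext2 {P : Type*} [AddCommGroup P] {f g : TM κ (TM κ M O) O →+ P}
    (h : ∀ (m : M) (a x : O), f (TM.tm κ (TM.tm κ m a) x) = g (TM.tm κ (TM.tm κ m a) x)) : f = g := by
  refine TM.addHom_ext κ fun y x => ?_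
  induction y using TM.induction with
  | zero => rw [TM.tm_zero_left, map_zero, map_zero]
  | tm m a => exact h m a x
  | add y y' hy hy' => rw [TM.tm_add_left, map_add, map_add, hy, hy']

theorem ext3 {P : Type*} [AddCommGroup P] {f g : TM κ (TM κ (TM κ M O) O) O →+ P}
    (h : ∀ (m : M) (a b x : O), f (TM.tm κ (TM.tm κ (TM.tm κ m a) b) x) = g (TM.tm κ (TM.tm κ (TM.tm κ m a) b) x)) :
    f = g := by
  refine TM.addHom_ext κ fun y x => ?_
  have e : (f.comp ((TM.tmHom κ).flip x)) = (g.comp ((TM.tmHom κ).flip x)) := ext2 κ fun m a b => h m a b x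
  exact DFunLike.congr_fun e y

variable {S : Type u} [CommRing S] {κ} (κ' : k →+* S) (φ : R →+* S) (hφ : ∀ c, φ (κ c) = κ' c)
variable {N : Type u} [AddCommGroup N] [Module S N]
variable (f : M →+ N) (hf : ∀ (r : R) (m : M), f (r • m) = φ r • f m)

theorem muL_smap (x : TM κ (TM κ M O) O) :
    muL κ' (TM.smap (W := O) κ' φ hφ (TM.smap (W := O) κ' φ hφ f hf) (TM.smap_smul κ' φ hφ f hf) x) =
      TM.smap (W := O) κ' φ hφ f hf (muL κ x) := by
  have e : (muL κ').toAddMonoidHom.comp
      (TM.smap (W := O) κ' φ hφ (TM.smap (W := O) κ' φ hφ f hf) (TM.smap_smul κ' φ hφ f hf)) =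
      (TM.smap (W := O) κ' φ hφ f hf).comp (muL κ).toAddMonoidHom := by
    refine ext2 κ fun m a x => ?_
    rw [AddMonoidHom.comp_apply, AddMonoidHom.comp_apply, LinearMap.toAddMonoidHom_coe, LinearMap.toAddMonoidHom_coe,
      TM.smap_tm, TM.smap_tm, muL_tm_tm, muL_tm_tm, TM.smap_tm]
  exact DFunLike.congr_fun e x

theorem lamL_smap (x : TM κ (TM κ M O) O) :
    lamL κ' (TM.smap (W := O) κ' φ hφ (TM.smap (W := O) κ' φ hφ f hf) (TM.smap_smul κ' φ hφ f hf) x) =
      TM.smap (W := O) κ' φ hφ (TM.smap (W := O) κ' φ hφ f hf) (TM.smap_smul κ' φ hφ f hf) (lamL κ x) := by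
  have e : (lamL κ').toAddMonoidHom.comp
      (TM.smap (W := O) κ' φ hφ (TM.smap (W := O) κ' φ hφ f hf) (TM.smap_smul κ' φ hφ f hf)) =
      (TM.smap (W := O) κ' φ hφ (TM.smap (W := O) κ' φ hφ f hf) (TM.smap_smul κ' φ hφ f hf)).comp
        (lamL κ).toAddMonoidHom := by
    refine ext2 κ fun m a x => ?_
    rw [AddMonoidHom.comp_apply, AddMonoidHom.comp_apply, LinearMap.toAddMonoidHom_coe, LinearMap.toAddMonoidHom_coe,
      TM.smap_tm, TM.smap_tm, lamL_tm_tm, lamL_tm_tm, smap_ins]
  exact DFunLike.congr_fun e x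

end Level

section Level2

variable {O : Type u} [CommRing O] [Bialgebra k O]
variable {R : Type u} [CommRing R] (κ : k →+* R) {M : Type u} [AddCommGroup M] [Module R M]

theorem map_muL_ins3 (m : M) (b : O) (z : O ⊗[k] O) :
    TM.map κ (muL κ) (LinearMap.id : O →ₗ[k] O) (ins O κ (TM.tm κ m b) z) =
      ins O κ m ((LinearMap.mulLeft k b).rTensor O z) := by
  induction z using TensorProduct.induction_on with
  | zero => rw [map_zero, map_zero, map_zero, map_zero]
  | add x y hx hy => rw [map_add, map_add, map_add, map_add, hx, hy]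
  | tmul p q => rw [ins_tmul, TM.map_tm, muL_tm_tm, LinearMap.rTensor_tmul, ins_tmul]; rfl

/-- `lam` then `mu` -/
theorem map_muL_lz (m : M) (w z : O ⊗[k] O) :
    TM.map κ (muL κ) (LinearMap.id : O →ₗ[k] O) (lz κ (ins O κ m w) z) = ins O κ m (w * z) := by
  induction w using TensorProduct.induction_on with
  | zero =>
    rw [map_zero, zero_mul, map_zero]
    have h := lz_smul κ (0 : R) (0 : TM κ (TM κ M O) O) z
    rw [smul_zero, zero_smul] at h
    rw [h, map_zero]
  | add x y hx hy => rw [map_add, lz_add, map_add, hx, hy, add_mul, map_add]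
  | tmul b c =>
    rw [ins_tmul, lz_tm, map_muL_ins3]
    congr 1
    induction z using TensorProduct.induction_on with
    | zero => rw [map_zero, map_zero, mul_zero]
    | add x y hx hy => rw [map_add, map_add, hx, hy, mul_add]
    | tmul p q => rw [LinearMap.lTensor_tmul, LinearMap.rTensor_tmul, Algebra.TensorProduct.tmul_mul_tmul]; rfl

theorem map_lamL_ins (m : M) (b : O) (z : O ⊗[k] O) :
    TM.map κ (lamL κ) (LinearMap.id : O →ₗ[k] O) (ins O κ (TM.tm κ m b) z) =
      ins3 O κ m (((LinearMap.mulLeft k b).lTensor O ∘ₗ Coalgebra.comul (R := k) (A := O)).rTensor O z) := by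
  induction z using TensorProduct.induction_on with
  | zero => rw [map_zero, map_zero, map_zero, map_zero]
  | add x y hx hy => rw [map_add, map_add, map_add, map_add, hx, hy]
  | tmul p q =>
    rw [ins_tmul, TM.map_tm, lamL_tm_tm, LinearMap.rTensor_tmul, ins3_tmul]
    rfl

theorem assoc_aux (b c : O) (z : O ⊗[k] O) :
    (TensorProduct.assoc k O O O).symm ((LinearMap.mulLeft k (b ⊗ₜ[k] c)).lTensor O
      ((Coalgebra.comul (R := k) (A := O)).lTensor O z)) =
    (TensorProduct.assoc k O O O).symm ((LinearMap.mulLeft k (b ⊗ₜ[k] c)).lTensor O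
      ((Coalgebra.comul (R := k) (A := O)).lTensor O z)) := rfl

theorem lTensor_comul (x : O) : (Coalgebra.comul (R := k) (A := O)).lTensor O (Coalgebra.comul (R := k) x) =
    TensorProduct.assoc k O O O ((Coalgebra.comul (R := k) (A := O)).rTensor O (Coalgebra.comul (R := k) x)) :=
  (Coalgebra.coassoc_apply x).symm

theorem aux2 (b c : O) (t : (O ⊗[k] O) ⊗[k] O) :
    (TensorProduct.assoc k O O O).symm ((LinearMap.mulLeft k (b ⊗ₜ[k] c)).lTensor O (TensorProduct.assoc k O O O t)) =
      TensorProduct.map ((LinearMap.mulLeft k b).lTensor O) (LinearMap.mulLeft k c) t := by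
  induction t using TensorProduct.induction_on with
  | zero => simp only [map_zero]
  | add x y hx hy => simp only [map_add, hx, hy]
  | tmul w r =>
    induction w using TensorProduct.induction_on with
    | zero => simp only [TensorProduct.zero_tmul, map_zero]
    | add x y hx hy => simp only [TensorProduct.add_tmul, map_add, hx, hy]
    | tmul p q =>
      rw [TensorProduct.assoc_tmul, LinearMap.lTensor_tmul, TensorProduct.map_tmul, LinearMap.lTensor_tmul]
      change (TensorProduct.assoc k O O O).symm (p ⊗ₜ[k] ((b ⊗ₜ[k] c) * (q ⊗ₜ[k] r))) = _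
      rw [Algebra.TensorProduct.tmul_mul_tmul, TensorProduct.assoc_symm_tmul]
      rfl

/-- `lam` is compatible with the comultiplication, on `m`, `w = comul a`, `comul x` -/
theorem lam_del_aux (m : M) (w : O ⊗[k] O) (x : O) :
    TM.map κ (lamL κ) (LinearMap.id : O →ₗ[k] O) (lz κ (ins O κ m w) (Coalgebra.comul (R := k) x)) =
      ins3 O κ m ((TensorProduct.assoc k O O O).symm
        ((LinearMap.mulLeft k w).lTensor O ((Coalgebra.comul (R := k) (A := O)).lTensor O
          (Coalgebra.comul (R := k) x)))) := by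
  induction w using TensorProduct.induction_on with
  | zero =>
    have h := lz_smul κ (0 : R) (0 : TM κ (TM κ M O) O) (Coalgebra.comul (R := k) x)
    rw [smul_zero, zero_smul] at h
    have h2 : LinearMap.mulLeft k (0 : O ⊗[k] O) = 0 := LinearMap.ext fun t => zero_mul t
    rw [map_zero, h, map_zero, h2, LinearMap.lTensor_zero, LinearMap.zero_apply, map_zero, map_zero]
  | add w w' hw hw' =>
    have h2 : LinearMap.mulLeft k (w + w') = LinearMap.mulLeft k w + LinearMap.mulLeft k w' :=
      LinearMap.ext fun t => add_mul w w' t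
    rw [map_add, lz_add, map_add, hw, hw', h2, LinearMap.lTensor_add, LinearMap.add_apply, map_add, map_add]
  | tmul b c =>
    rw [ins_tmul, lz_tm, map_lamL_ins, lTensor_comul, aux2]
    congr 1
    rw [← LinearMap.comp_apply, ← LinearMap.comp_apply, LinearMap.rTensor_comp_lTensor]
    rw [← LinearMap.comp_apply (TensorProduct.map _ _), LinearMap.rTensor]
    rw [← TensorProduct.map_comp]
    rfl

theorem delL_lam (m : M) (a x : O) :
    delL O κ (TM κ M O) (ins O κ m ((LinearMap.mulLeft k a).lTensor O (Coalgebra.comul (R := k) x))) =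
      ins3 O κ m ((TensorProduct.assoc k O O O).symm
        ((LinearMap.mulLeft k (Coalgebra.comul (R := k) a)).lTensor O ((Coalgebra.comul (R := k) (A := O)).lTensor O
          (Coalgebra.comul (R := k) x)))) := by
  have h : (Coalgebra.comul (R := k) (A := O)) ∘ₗ LinearMap.mulLeft k a =
      LinearMap.mulLeft k (Coalgebra.comul (R := k) a) ∘ₗ Coalgebra.comul (R := k) (A := O) := by
    apply LinearMap.ext
    intro t
    exact Bialgebra.comul_mul a t
  rw [delL_ins, ← LinearMap.comp_apply (LinearMap.lTensor O _), ← LinearMap.lTensor_comp, h, LinearMap.lTensor_comp,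
    LinearMap.comp_apply]

theorem eps_lam (m : M) (a x : O) :
    epsL O κ (TM κ M O) (ins O κ m ((LinearMap.mulLeft k a).lTensor O (Coalgebra.comul (R := k) x))) =
      TM.tm κ m (Coalgebra.counit (R := k) a • x) := by
  rw [epsL_ins, ← LinearMap.comp_apply, ← LinearMap.lTensor_comp]
  have h : (Coalgebra.counit (R := k) (A := O)) ∘ₗ LinearMap.mulLeft k a =
      Coalgebra.counit (R := k) a • Coalgebra.counit (R := k) (A := O) := by
    apply LinearMap.ext
    intro t
    exact Bialgebra.counit_mul a t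
  rw [h, LinearMap.lTensor_smul, LinearMap.smul_apply, Coalgebra.lTensor_counit_comul, map_smul,
    TensorProduct.rid_tmul, one_smul]

end Level2

section Laws

variable {O : Type u} [CommRing O] [Bialgebra k O]
variable {R : Type u} [CommRing R] (κ : k →+* R) {M : Type u} [AddCommGroup M] [Module R M]
  {N : Type u} [AddCommGroup N] [Module R N]

theorem law_lam_nat (f : M →ₗ[R] N) (m : M) (a x : O) :
    lamL κ (TM.map κ (TM.map κ f (LinearMap.id : O →ₗ[k] O)) (LinearMap.id : O →ₗ[k] O)
      (TM.tm κ (TM.tm κ m a) x)) = TM.map κ (TM.map κ f (LinearMap.id : O →ₗ[k] O)) (LinearMap.id : O →ₗ[k] O)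
        (lamL κ (TM.tm κ (TM.tm κ m a) x)) := by
  rw [TM.map_tm, TM.map_tm, lamL_tm_tm, lamL_tm_tm, map_map_ins]
  rfl

theorem law_lam_counit (m : M) (a x : O) :
    epsL O κ (TM κ M O) (lamL κ (TM.tm κ (TM.tm κ m a) x)) =
      TM.map κ (epsL O κ M) (LinearMap.id : O →ₗ[k] O) (TM.tm κ (TM.tm κ m a) x) := by
  rw [lamL_tm_tm, eps_lam, TM.map_tm, epsL_tm, TM.tm_k]
  rfl

theorem law_lam_comul (m : M) (a x : O) :
    delL O κ (TM κ M O) (lamL κ (TM.tm κ (TM.tm κ m a) x)) =
      TM.map κ (lamL κ) (LinearMap.id : O →ₗ[k] O)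
        (lamL κ (TM.map κ (delL O κ M) (LinearMap.id : O →ₗ[k] O) (TM.tm κ (TM.tm κ m a) x))) := by
  rw [lamL_tm_tm, delL_lam, TM.map_tm, delL_tm, lamL_tm]
  exact (lam_del_aux κ m _ _).symm

theorem law_mu_nat (f : M →ₗ[R] N) (m : M) (a x : O) :
    muL κ (TM.map κ (TM.map κ f (LinearMap.id : O →ₗ[k] O)) (LinearMap.id : O →ₗ[k] O)
      (TM.tm κ (TM.tm κ m a) x)) = TM.map κ f (LinearMap.id : O →ₗ[k] O) (muL κ (TM.tm κ (TM.tm κ m a) x)) := by
  rw [TM.map_tm, TM.map_tm, muL_tm_tm, muL_tm_tm, TM.map_tm]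
  rfl

theorem law_mu_assoc (m : M) (a b x : O) :
    muL κ (muL κ (TM.tm κ (TM.tm κ (TM.tm κ m a) b) x)) =
      muL κ (TM.map κ (muL κ) (LinearMap.id : O →ₗ[k] O) (TM.tm κ (TM.tm κ (TM.tm κ m a) b) x)) := by
  rw [muL_tm_tm, muL_tm_tm, TM.map_tm, muL_tm_tm]
  exact (congrArg (TM.tm κ m) (mul_assoc a b x).symm).trans (muL_tm_tm κ m (a * b) x).symm

theorem law_lam_mu (m : M) (a x : O) :
    TM.map κ (muL κ) (LinearMap.id : O →ₗ[k] O)
      (lamL κ (TM.map κ (delL O κ M) (LinearMap.id : O →ₗ[k] O) (TM.tm κ (TM.tm κ m a) x))) =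
      delL O κ M (muL κ (TM.tm κ (TM.tm κ m a) x)) := by
  rw [TM.map_tm, delL_tm, lamL_tm, muL_tm_tm, delL_tm, Bialgebra.comul_mul]
  exact map_muL_lz κ m _ _

end Laws

section LawsH

variable {O : Type u} [CommRing O] [HopfAlgebra k O]
variable {R : Type u} [CommRing R] (κ : k →+* R) {M : Type u} [AddCommGroup M] [Module R M]

theorem law_sa_left (m : M) (w : O) :
    muL κ (TM.map κ (TM.map κ (LinearMap.id : M →ₗ[R] M)
      (HopfAlgebra.antipode k (A := O))) (LinearMap.id : O →ₗ[k] O) (delL O κ M (TM.tm κ m w))) =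
      TM.tm κ (epsL O κ M (TM.tm κ m w)) (1 : O) := by
  rw [delL_tm, epsL_tm, TM.tm_k]
  have h : ∀ z : O ⊗[k] O, muL κ (TM.map κ (TM.map κ (LinearMap.id : M →ₗ[R] M)
      (HopfAlgebra.antipode k (A := O))) (LinearMap.id : O →ₗ[k] O) (ins O κ m z)) =
      TM.tm κ m (LinearMap.mul' k O ((HopfAlgebra.antipode k (A := O)).rTensor O z)) := by
    intro z
    induction z using TensorProduct.induction_on with
    | zero => rw [map_zero, map_zero, map_zero, map_zero, map_zero, TM.tm_zero_right]
    | add x y hx hy => rw [map_add, map_add, map_add, map_add, map_add, hx, hy, TM.tm_add_right]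
    | tmul p q => rw [ins_tmul, TM.map_tm, TM.map_tm, muL_tm_tm, LinearMap.rTensor_tmul, LinearMap.mul'_apply]; rfl
  rw [h]
  have h2 := LinearMap.congr_fun (HopfAlgebra.mul_antipode_rTensor_comul (R := k) (A := O)) w
  change LinearMap.mul' k O ((HopfAlgebra.antipode k (A := O)).rTensor O (Coalgebra.comul (R := k) w)) =
    algebraMap k O (Coalgebra.counit (R := k) w) at h2
  rw [h2, Algebra.algebraMap_eq_smul_one]

theorem law_sa_right (m : M) (w : O) :
    muL κ (TM.map κ (LinearMap.id : TM κ M O →ₗ[R] TM κ M O)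
      (HopfAlgebra.antipode k (A := O)) (delL O κ M (TM.tm κ m w))) =
      TM.tm κ (epsL O κ M (TM.tm κ m w)) (1 : O) := by
  rw [delL_tm, epsL_tm, TM.tm_k]
  have h : ∀ z : O ⊗[k] O, muL κ (TM.map κ (LinearMap.id : TM κ M O →ₗ[R] TM κ M O)
      (HopfAlgebra.antipode k (A := O)) (ins O κ m z)) =
      TM.tm κ m (LinearMap.mul' k O ((HopfAlgebra.antipode k (A := O)).lTensor O z)) := by
    intro z
    induction z using TensorProduct.induction_on with
    | zero => rw [map_zero, map_zero, map_zero, map_zero, map_zero, TM.tm_zero_right]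
    | add x y hx hy => rw [map_add, map_add, map_add, map_add, map_add, hx, hy, TM.tm_add_right]
    | tmul p q =>
      rw [ins_tmul, TM.map_tm, LinearMap.id_apply, muL_tm_tm, LinearMap.lTensor_tmul, LinearMap.mul'_apply]
  rw [h]
  have h2 := LinearMap.congr_fun (HopfAlgebra.mul_antipode_lTensor_comul (R := k) (A := O)) w
  change LinearMap.mul' k O ((HopfAlgebra.antipode k (A := O)).lTensor O (Coalgebra.comul (R := k) w)) =
    algebraMap k O (Coalgebra.counit (R := k) w) at h2
  rw [h2, Algebra.algebraMap_eq_smul_one]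

end LawsH

section Lam

variable {A : NFᵒᵖ ⥤ CommRingCat.{u}} (s : KS k A)
variable (O : Type u) [CommRing O] [Bialgebra k O]

theorem pext2 {M N : PresheafOfModules.{u} (rf A)} {f g : tensPobj s (tensPobj s M O) O ⟶ N}
    (h : ∀ X (m : M.obj X) (a x : O), lv f X (TM.tm (s.κ X) (TM.tm (s.κ X) m a) x) =
      lv g X (TM.tm (s.κ X) (TM.tm (s.κ X) m a) x)) : f = g := by
  apply phom_ext
  intro X y
  have e : ((lv f X).toAddMonoidHom : TM (s.κ X) (TM (s.κ X) (M.obj X) O) O →+ N.obj X) =
      (lv g X).toAddMonoidHom := ext2 (s.κ X) (h X)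
  exact DFunLike.congr_fun e y

theorem pext3 {M N : PresheafOfModules.{u} (rf A)} {f g : tensPobj s (tensPobj s (tensPobj s M O) O) O ⟶ N}
    (h : ∀ X (m : M.obj X) (a b x : O), lv f X (TM.tm (s.κ X) (TM.tm (s.κ X) (TM.tm (s.κ X) m a) b) x) =
      lv g X (TM.tm (s.κ X) (TM.tm (s.κ X) (TM.tm (s.κ X) m a) b) x)) : f = g := by
  apply phom_ext
  intro X y
  have e : ((lv f X).toAddMonoidHom : TM (s.κ X) (TM (s.κ X) (TM (s.κ X) (M.obj X) O) O) O →+ N.obj X) =
      (lv g X).toAddMonoidHom := ext3 (s.κ X) (h X)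
  exact DFunLike.congr_fun e y

/-- `(m ⊗ a) ⊗ x ↦ m ⊗ a x` -/
def muP (M : PresheafOfModules.{u} (rf A)) : tensPobj s (tensPobj s M O) O ⟶ tensPobj s M O :=
  mkHom (M := tensPobj s (tensPobj s M O) O) (N := tensPobj s M O) (fun X => muL (s.κ X))
    fun {X Y} φ x => muL_smap (s.κ Y) (A.map φ).hom (s.nat φ) (pmap M φ) (pmap_smul M φ) x

/-- `(m ⊗ a) ⊗ x ↦ (m ⊗ x₁) ⊗ a x₂` -/
def lamP (M : PresheafOfModules.{u} (rf A)) : tensPobj s (tensPobj s M O) O ⟶ tensPobj s (tensPobj s M O) O :=
  mkHom (M := tensPobj s (tensPobj s M O) O) (N := tensPobj s (tensPobj s M O) O) (fun X => lamL (s.κ X))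
    fun {X Y} φ x => lamL_smap (s.κ Y) (A.map φ).hom (s.nat φ) (pmap M φ) (pmap_smul M φ) x

theorem muP_tm (M : PresheafOfModules.{u} (rf A)) (X : NFᵒᵖ) (m : M.obj X) (a x : O) :
    lv (muP s O M) X (TM.tm (s.κ X) (TM.tm (s.κ X) m a) x) = TM.tm (s.κ X) m (a * x) := muL_tm_tm (s.κ X) m a x

theorem lamP_tm (M : PresheafOfModules.{u} (rf A)) (X : NFᵒᵖ) (m : M.obj X) (a x : O) :
    lv (lamP s O M) X (TM.tm (s.κ X) (TM.tm (s.κ X) m a) x) =
      ins O (s.κ X) m ((LinearMap.mulLeft k a).lTensor O (Coalgebra.comul (R := k) x)) := lamL_tm_tm (s.κ X) m a x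

/-- the diagonal law on `Comod A` -/
def lamG : LamG (GO s O) where
  lam N := ObjectProperty.homMk (lamP s O N.obj)
  nat {M N} f := by
    apply ObjectProperty.hom_ext
    refine pext2 s O fun X m a x => ?_
    exact law_lam_nat (s.κ X) (lv f.hom X) m a x
  counit N := by
    apply ObjectProperty.hom_ext
    refine pext2 s O fun X m a x => ?_
    exact law_lam_counit (s.κ X) (M := N.obj.obj X) m a x
  comul N := by
    apply ObjectProperty.hom_ext
    refine pext2 s O fun X m a x => ?_
    exact law_lam_comul (s.κ X) (M := N.obj.obj X) m a x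

end Lam

section Hopf

variable {A : NFᵒᵖ ⥤ CommRingCat.{u}} (s : KS k A)
variable (O : Type u) [CommRing O] [HopfAlgebra k O]

/-- the Hopf structure of the comonad `- ⊗_k O` -/
def hopfG : HopfG (unitGO s O) (lamG s O) where
  mu N := ObjectProperty.homMk (muP s O N.obj)
  sa N := (tensMap s (HopfAlgebra.antipode k (A := O))).app N
  mu_nat {M N} f := by
    apply ObjectProperty.hom_ext
    refine pext2 s O fun X m a x => ?_
    exact law_mu_nat (s.κ X) (lv f.hom X) m a x
  sa_nat {M N} f := (tensMap s (HopfAlgebra.antipode k (A := O))).naturality f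
  mu_assoc N := by
    apply ObjectProperty.hom_ext
    refine pext3 s O fun X m a b x => ?_
    exact law_mu_assoc (s.κ X) (M := N.obj.obj X) m a b x
  mu_one N := by
    apply ObjectProperty.hom_ext
    refine tens_ext s fun X m w => ?_
    exact (muL_tm_tm (s.κ X) m 1 w).trans (congrArg (TM.tm (s.κ X) m) (one_mul w))
  sa_left N := by
    apply ObjectProperty.hom_ext
    refine tens_ext s fun X m w => ?_
    exact law_sa_left (s.κ X) (M := N.obj.obj X) m w
  sa_right N := by
    apply ObjectProperty.hom_ext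
    refine tens_ext s fun X m w => ?_
    exact law_sa_right (s.κ X) (M := N.obj.obj X) m w
  lam_mu N := by
    apply ObjectProperty.hom_ext
    refine pext2 s O fun X m a x => ?_
    exact law_lam_mu (s.κ X) (M := N.obj.obj X) m a x

end Hopf

end Groth.Agent.ResProp.EF.K744
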