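import Groth.Agent.ResProp.EF.K742.GO
import Groth.Agent.ResProp.EF.K744.ShearAbs
import Mathlib.RingTheory.HopfAlgebra.Basic

/-!
# The multiplication and the diagonal law of `- ⊗_k O` at a level (S16912, G6c, [TW], helper744)

`muL : (M ⊗ O) ⊗ O → M ⊗ O`, `(m ⊗ a) ⊗ x ↦ m ⊗ a x`; `lamL : (M ⊗ O) ⊗ O → (M ⊗ O) ⊗ O`, `(m ⊗ a) ⊗ x ↦ (m ⊗ x₁) ⊗ a x₂`.
-/

set_option autoImplicit false
set_option linter.unusedSectionVars false

open TensorProduct

noncomputable section

namespace Groth.Agent.ResProp.EF.K744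

open K742

universe u

variable {k : Type u} [CommRing k] {O : Type u} [CommRing O] [Bialgebra k O]
variable {R : Type u} [CommRing R] (κ : k →+* R) {M : Type u} [AddCommGroup M] [Module R M]

theorem map_add_right {W W' : Type u} [AddCommGroup W] [Module k W] [AddCommGroup W'] [Module k W']
    {N : Type u} [AddCommGroup N] [Module R N] (f : M →ₗ[R] N) (g g' : W →ₗ[k] W') (y : TM κ M W) :
    TM.map κ f (g + g') y = TM.map κ f g y + TM.map κ f g' y := by
  induction y using TM.induction with
  | zero => rw [map_zero, map_zero, map_zero, add_zero]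
  | tm m w => rw [TM.map_tm, TM.map_tm, TM.map_tm, LinearMap.add_apply, TM.tm_add_right]
  | add x y hx hy => rw [map_add, map_add, map_add, hx, hy]; abel

theorem map_smul_right {W W' : Type u} [AddCommGroup W] [Module k W] [AddCommGroup W'] [Module k W']
    {N : Type u} [AddCommGroup N] [Module R N] (f : M →ₗ[R] N) (c : k) (g : W →ₗ[k] W') (y : TM κ M W) :
    TM.map κ f (c • g) y = κ c • TM.map κ f g y := by
  induction y using TM.induction with
  | zero => rw [map_zero, map_zero, smul_zero]
  | tm m w => rw [TM.map_tm, TM.map_tm, LinearMap.smul_apply, TM.k_smul_tm]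
  | add x y hx hy => rw [map_add, map_add, hx, hy, smul_add]

theorem mulRight_add' (x y : O) : LinearMap.mulRight k (x + y) = LinearMap.mulRight k x + LinearMap.mulRight k y :=
  LinearMap.ext fun t => mul_add t x y

theorem mulRight_smul' (c : k) (x : O) : LinearMap.mulRight k (c • x) = c • LinearMap.mulRight k x :=
  LinearMap.ext fun t => mul_smul_comm c t x

/-- `(m ⊗ a) ⊗ x ↦ m ⊗ a x` -/
def muL : TM κ (TM κ M O) O →ₗ[R] TM κ M O :=
  TM.liftL κ
    (AddMonoidHom.mk' (fun y => AddMonoidHom.mk'
      (fun x => TM.map κ (LinearMap.id : M →ₗ[R] M) (LinearMap.mulRight k x) y) fun x x' => by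
        rw [mulRight_add', map_add_right]) fun y y' => by
      ext x
      exact map_add (TM.map κ (LinearMap.id : M →ₗ[R] M) (LinearMap.mulRight k x)) y y')
    (fun c y x => by
      change TM.map κ (LinearMap.id : M →ₗ[R] M) (LinearMap.mulRight k x) (κ c • y) =
        TM.map κ (LinearMap.id : M →ₗ[R] M) (LinearMap.mulRight k (c • x)) y
      rw [map_smul, mulRight_smul', map_smul_right])
    (fun r y x => map_smul (TM.map κ (LinearMap.id : M →ₗ[R] M) (LinearMap.mulRight k x)) r y)

theorem muL_tm (y : TM κ M O) (x : O) :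
    muL κ (TM.tm κ y x) = TM.map κ (LinearMap.id : M →ₗ[R] M) (LinearMap.mulRight k x) y := TM.liftL_tm κ _ _ _ y x

@[simp] theorem muL_tm_tm (m : M) (a x : O) : muL κ (TM.tm κ (TM.tm κ m a) x) = TM.tm κ m (a * x) := by
  rw [muL_tm, TM.map_tm]
  rfl

/-- `m ↦ m ⊗ p` -/
def tr (p : O) : M →ₗ[R] TM κ M O where
  toFun m := TM.tm κ m p
  map_add' m m' := TM.tm_add_left κ m m' p
  map_smul' r m := (TM.smul_tm κ r m p).symm

@[simp] theorem tr_apply (p : O) (m : M) : tr κ p m = TM.tm κ m p := rfl

/-- `p ⊗ q ↦ (m ⊗ a ↦ (m ⊗ p) ⊗ a q)` -/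
def lz (y : TM κ M O) : O ⊗[k] O →+ TM κ (TM κ M O) O :=
  TensorProduct.liftAddHom
    (AddMonoidHom.mk' (fun p => AddMonoidHom.mk' (fun q => TM.map κ (tr κ p) (LinearMap.mulRight k q) y) fun q q' => by
        rw [mulRight_add', map_add_right]) fun p p' => by
      ext q
      change TM.map κ (tr κ (p + p')) _ y = TM.map κ (tr κ p) _ y + TM.map κ (tr κ p') _ y
      induction y using TM.induction with
      | zero => rw [map_zero, map_zero, map_zero, add_zero]
      | tm m w => rw [TM.map_tm, TM.map_tm, TM.map_tm, tr_apply, tr_apply, tr_apply, TM.tm_add_right, TM.tm_add_left]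
      | add x y hx hy => rw [map_add, map_add, map_add, hx, hy]; abel)
    (fun c p q => by
      change TM.map κ (tr κ (c • p)) (LinearMap.mulRight k q) y = TM.map κ (tr κ p) (LinearMap.mulRight k (c • q)) y
      rw [mulRight_smul', map_smul_right]
      induction y using TM.induction with
      | zero => rw [map_zero, map_zero, smul_zero]
      | tm m w =>
        rw [TM.map_tm, TM.map_tm, tr_apply, tr_apply, TM.smul_tm, TM.k_smul_tm]
      | add x y hx hy => rw [map_add, map_add, hx, hy, smul_add])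

@[simp] theorem lz_tmul (y : TM κ M O) (p q : O) :
    lz κ y (p ⊗ₜ[k] q) = TM.map κ (tr κ p) (LinearMap.mulRight k q) y := rfl

theorem lz_add (y y' : TM κ M O) (z : O ⊗[k] O) : lz κ (y + y') z = lz κ y z + lz κ y' z := by
  induction z using TensorProduct.induction_on with
  | zero => rw [map_zero, map_zero, map_zero, add_zero]
  | add x y hx hy => rw [map_add, map_add, map_add, hx, hy]; abel
  | tmul p q => rw [lz_tmul, lz_tmul, lz_tmul, map_add]

theorem lz_smul (r : R) (y : TM κ M O) (z : O ⊗[k] O) : lz κ (r • y) z = r • lz κ y z := by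
  induction z using TensorProduct.induction_on with
  | zero => rw [map_zero, map_zero, smul_zero]
  | add x y hx hy => rw [map_add, map_add, hx, hy, smul_add]
  | tmul p q => rw [lz_tmul, lz_tmul, map_smul]

theorem lz_k (c : k) (y : TM κ M O) (z : O ⊗[k] O) : lz κ y (c • z) = κ c • lz κ y z := by
  induction z using TensorProduct.induction_on with
  | zero => rw [smul_zero, map_zero, smul_zero]
  | add x y hx hy => rw [smul_add, map_add, map_add, hx, hy, smul_add]
  | tmul p q =>
    rw [← TensorProduct.tmul_smul, lz_tmul, lz_tmul, mulRight_smul', map_smul_right]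

theorem lz_tm (m : M) (a : O) (z : O ⊗[k] O) :
    lz κ (TM.tm κ m a) z = ins O κ m ((LinearMap.mulLeft k a).lTensor O z) := by
  induction z using TensorProduct.induction_on with
  | zero => rw [map_zero, map_zero, map_zero]
  | add x y hx hy => rw [map_add, map_add, map_add, hx, hy]
  | tmul p q => rw [lz_tmul, TM.map_tm, tr_apply, LinearMap.lTensor_tmul, ins_tmul]; rfl

/-- `(m ⊗ a) ⊗ x ↦ (m ⊗ x₁) ⊗ a x₂` -/
def lamL : TM κ (TM κ M O) O →ₗ[R] TM κ (TM κ M O) O :=
  TM.liftL κ
    (AddMonoidHom.mk' (fun y => (lz κ y).comp (Coalgebra.comul (R := k) (A := O)).toAddMonoidHom) fun y y' => by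
      ext x
      exact lz_add κ y y' _)
    (fun c y x => by
      change lz κ (κ c • y) (Coalgebra.comul (R := k) x) = lz κ y (Coalgebra.comul (R := k) (c • x))
      rw [map_smul, lz_smul, lz_k])
    (fun r y x => lz_smul κ r y _)

theorem lamL_tm (y : TM κ M O) (x : O) : lamL κ (TM.tm κ y x) = lz κ y (Coalgebra.comul (R := k) x) :=
  TM.liftL_tm κ _ _ _ y x

theorem lamL_tm_tm (m : M) (a x : O) : lamL κ (TM.tm κ (TM.tm κ m a) x) =
    ins O κ m ((LinearMap.mulLeft k a).lTensor O (Coalgebra.comul (R := k) x)) := by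
  rw [lamL_tm, lz_tm]

end Groth.Agent.ResProp.EF.K744
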