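import Groth.Agent.ResProp.EF.K679.TwMod
import Groth.Agent.ResProp.EF.K140.ModHom
import Mathlib.RingTheory.Flat.Stability

/-!
# Base change of a twist, module level (S16912, G6c, [TW], helper744)

`k → R` commutative rings, `O` a commutative bialgebra over `k`, `F : HopfRep.Comod k O S`.
* `bcF F : HopfRep.Comod R (R ⊗[k] O) (R ⊗[k] S)`: the base change of `F`.
* `e M S : M ⊗[k] S ≃ₗ[R] M ⊗[R] (R ⊗[k] S)`, `m ⊗ s ↦ m ⊗ (1 ⊗ s)`, natural in `M` and `S`.
* `coact_e` : for an `R`-linear coaction `c` on `M` the `R ⊗[k] O`-comodule of `c ⊗ F` is the tensor product of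
  the `R ⊗[k] O`-comodule of `c` and `bcF F`, through `e`.
-/

set_option autoImplicit false

universe u

open TensorProduct

noncomputable section

namespace Groth.Agent.ResProp.EF.K744.TwBC

open Groth.Agent.ResProp.EF.K679.Tw

variable {k : Type u} [CommRing k] {R : Type u} [CommRing R] [Algebra k R] {O : Type u} [CommRing O] [Bialgebra k O]

section bcF

variable (R) {S : Type u} [AddCommGroup S] [Module k S] (F : HopfRep.Comod k O S)

/-- `R ⊗ F`, `R` with the trivial coaction: `r ⊗ s ↦ (r ⊗ s₀) ⊗ s₁`. -/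
@[reducible] def kF : HopfRep.Comod k O (R ⊗[k] S) := ComodTens.Comod.tensor (HopfRep.Comod.trivial k O R) F

theorem kF_coact (r : R) (s : S) : (kF R F).coact (r ⊗ₜ[k] s) = bb ((r ⊗ₜ[k] (1 : O)) ⊗ₜ[k] F.coact s) := rfl

theorem rLin_kF : K805.RLin k O R (kF R F) := fun r z =>
  tensor_smul (HopfRep.Comod.trivial k O R) F (fun _ _ => rfl) r z

/-- The base change of `F` to `R`. -/
@[reducible] def bcF : HopfRep.Comod R (R ⊗[k] O) (R ⊗[k] S) := K805.toR (kF R F) (rLin_kF R F)

theorem bcF_coact (r : R) (s : S) : (bcF R F).coact (r ⊗ₜ[k] s) =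
    K805.up k O (LinearMap.id : R ⊗[k] S →ₗ[R] R ⊗[k] S) (bb ((r ⊗ₜ[k] (1 : O)) ⊗ₜ[k] F.coact s)) := rfl

/-- naturality of `bcF` -/
theorem bcF_nat {S' : Type u} [AddCommGroup S'] [Module k S'] (F' : HopfRep.Comod k O S') (g : S →ₗ[k] S')
    (hg : ∀ s, F'.coact (g s) = g.rTensor O (F.coact s)) (z : R ⊗[k] S) :
    (bcF R F').coact (AlgebraTensorModule.map (LinearMap.id : R →ₗ[R] R) g z) =
      (AlgebraTensorModule.map (LinearMap.id : R →ₗ[R] R) g).rTensor (R ⊗[k] O) ((bcF R F).coact z) := by
  induction z using TensorProduct.induction_on with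
  | zero => simp only [map_zero]
  | add x y hx hy => simp only [map_add, hx, hy]
  | tmul r s =>
    rw [AlgebraTensorModule.map_tmul, bcF_coact, bcF_coact, hg]
    generalize F.coact s = w
    induction w using TensorProduct.induction_on with
    | zero => simp only [map_zero, TensorProduct.tmul_zero]
    | add x y hx hy => simp only [map_add, TensorProduct.tmul_add, hx, hy]
    | tmul s a =>
      simp only [LinearMap.rTensor_tmul, bb_tmul, K805.up_tmul, LinearMap.id_apply, AlgebraTensorModule.map_tmul]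

end bcF

section e

variable (k R)
variable (M : Type u) [AddCommGroup M] [Module k M] [Module R M] [IsScalarTower k R M]
variable (S : Type u) [AddCommGroup S] [Module k S]

/-- `m ⊗ s ↦ m ⊗ (1 ⊗ s)` -/
def e : M ⊗[k] S ≃ₗ[R] M ⊗[R] (R ⊗[k] S) := (AlgebraTensorModule.cancelBaseChange k R R M S).symm

variable {M S}

@[simp] theorem e_tmul (m : M) (s : S) : e k R M S (m ⊗ₜ[k] s) = m ⊗ₜ[R] ((1 : R) ⊗ₜ[k] s) := rfl

@[simp] theorem e_symm_tmul (m : M) (r : R) (s : S) :
    (e k R M S).symm (m ⊗ₜ[R] (r ⊗ₜ[k] s)) = (r • m) ⊗ₜ[k] s := rfl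

variable {k R}

/-- naturality in `M` -/
theorem e_nat {N : Type u} [AddCommGroup N] [Module k N] [Module R N] [IsScalarTower k R N] (f : M →ₗ[R] N)
    (z : M ⊗[k] S) : e k R N S ((f.restrictScalars k).rTensor S z) = f.rTensor (R ⊗[k] S) (e k R M S z) := by
  induction z using TensorProduct.induction_on with
  | zero => simp only [map_zero]
  | add x y hx hy => simp only [map_add, hx, hy]
  | tmul m a => rfl

/-- naturality in `S` -/
theorem e_natS {S' : Type u} [AddCommGroup S'] [Module k S'] (g : S →ₗ[k] S') (z : M ⊗[k] S) :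
    e k R M S' (g.lTensor M z) =
      (AlgebraTensorModule.map (LinearMap.id : R →ₗ[R] R) g).lTensor M (e k R M S z) := by
  induction z using TensorProduct.induction_on with
  | zero => simp only [map_zero]
  | add x y hx hy => simp only [map_add, hx, hy]
  | tmul m a => rfl

variable (c : HopfRep.Comod k O M) (F : HopfRep.Comod k O S)

theorem rLin_tensor (hc : K805.RLin k O R c) : K805.RLin k O R (ComodTens.Comod.tensor c F) :=
  fun r z => tensor_smul c F hc r z

theorem bb_up (w : M ⊗[k] O) (w' : S ⊗[k] O) :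
    bb (K805.up k O (LinearMap.id : M →ₗ[R] M) w ⊗ₜ[R]
      K805.up k O (LinearMap.id : R ⊗[k] S →ₗ[R] R ⊗[k] S) (bb (((1 : R) ⊗ₜ[k] (1 : O)) ⊗ₜ[k] w'))) =
    (e k R M S).toLinearMap.rTensor (R ⊗[k] O)
      (K805.up k O (LinearMap.id : M ⊗[k] S →ₗ[R] M ⊗[k] S) (bb (w ⊗ₜ[k] w'))) := by
  induction w using TensorProduct.induction_on with
  | zero => simp only [map_zero, TensorProduct.zero_tmul]
  | add x y hx hy => simp only [map_add, TensorProduct.add_tmul, hx, hy]
  | tmul m a =>
    induction w' using TensorProduct.induction_on with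
    | zero => simp only [map_zero, TensorProduct.tmul_zero]
    | add x y hx hy => simp only [map_add, TensorProduct.tmul_add, hx, hy]
    | tmul s b =>
      simp only [bb_tmul, K805.up_tmul, LinearMap.rTensor_tmul, LinearMap.id_apply, LinearEquiv.coe_coe, e_tmul,
        Algebra.TensorProduct.tmul_mul_tmul, one_mul]

/-- **Base change of the twist**: `e` is a morphism of comodules over `R ⊗[k] O`. -/
theorem coact_e (hc : K805.RLin k O R c) (z : M ⊗[k] S) :
    (ComodTens.Comod.tensor (K805.toR c hc) (bcF R F)).coact (e k R M S z) =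
      (e k R M S).toLinearMap.rTensor (R ⊗[k] O)
        ((K805.toR (ComodTens.Comod.tensor c F) (rLin_tensor c F hc)).coact z) := by
  induction z using TensorProduct.induction_on with
  | zero => simp only [map_zero]
  | add x y hx hy => simp only [map_add, hx, hy]
  | tmul m s =>
    rw [e_tmul, tensor_coact]
    exact bb_up (c.coact m) (F.coact s)

end e

section Props

variable (R) (S : Type u) [AddCommGroup S] [Module k S]

instance finite_bc [Module.Finite k S] : Module.Finite R (R ⊗[k] S) := inferInstance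

instance flat_bc [Module.Flat k S] : Module.Flat R (R ⊗[k] S) := inferInstance

instance flat_bcO [Module.Flat k O] : Module.Flat R (R ⊗[k] O) := inferInstance

end Props

end Groth.Agent.ResProp.EF.K744.TwBC
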